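import Groth.Agent.SerrePn.ExtTwist
import Groth.Agent.ExtHom.Linear
import Groth.Agent.AbVarLib.H0Field
import Groth.Prelude.Def_KLin
import Mathlib.LinearAlgebra.Matrix.Charpoly.Basic
import Mathlib.LinearAlgebra.Matrix.NonsingularInverse

/-!
# Endomorphisms of cokernels of maps of sums of line bundles
-/

set_option autoImplicit false
set_option backward.isDefEq.respectTransparency false
set_option backward.isDefEq.respectTransparency.types false

universe u

open CategoryTheory Limits AlgebraicGeometry TopologicalSpace Opposite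

noncomputable section

namespace Groth.Agent.VBStable

variable {X : Scheme.{u}}

/-- tensoring with a module that has a tensor inverse -/
def tensorEquiv (L M : X.Modules) (e : CohB1.tensorMod L M ≅ Coh.structureModule X)
    (e' : CohB1.tensorMod M L ≅ Coh.structureModule X) : X.Modules ≌ X.Modules :=
  CategoryTheory.Equivalence.mk ((DCoh.tensorBi (X := X)).obj L) ((DCoh.tensorBi (X := X)).obj M)
    (SerrePn.tensorCompIso M L _ e' ≪≫ SerrePn.unitTensorNatIso).symm
    (SerrePn.tensorCompIso L M _ e ≪≫ SerrePn.unitTensorNatIso)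

theorem subsingleton_ext_of_map [HasExt.{u} X.Modules] (E : X.Modules ≌ X.Modules) {A B : X.Modules} (i : ℕ)
    (h : Subsingleton (Abelian.Ext (E.functor.obj A) (E.functor.obj B) i)) : Subsingleton (Abelian.Ext A B i) := by
  have : E.functor.Additive := Functor.additive_of_preserves_binary_products _
  have : E.functor.PreservesInjectiveObjects :=
    Functor.preservesInjectiveObjects_of_adjunction_of_preservesMonomorphisms E.symm.toAdjunction
  exact (Functor.mapExt_bijective_of_preservesInjectiveObjects E.functor A B i).1.subsingleton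

theorem hom_eq_zero_of_hh {M : X.Modules} (h : Subsingleton (Coh.HH X M 0))
    (f : Coh.structureModule X ⟶ M) : f = 0 := by
  haveI : HasExt.{u} X.Modules := Groth.Agent.ModShf.schemeModulesHasExt _
  have := SerrePn.subsingleton_ext_unit M 0 h
  exact (Abelian.Ext.mk₀_bijective _ _).1 (Subsingleton.elim _ _)

variable {k : Type u} [Field k] [X.Over (Spec (CommRingCat.of k))]

theorem endO_scalar (h : Function.Bijective (Coh.toGlobal (X ↘ Spec (CommRingCat.of k))))
    (φ : Coh.structureModule X ⟶ Coh.structureModule X) : ∃ c : k, φ = c • 𝟙 _ := by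
  obtain ⟨c, hc⟩ := h.2 (show Coh.Γtop X from φ.app ⊤ (show Γ(Coh.structureModule X, ⊤) from (1 : Γ(X, ⊤))))
  refine ⟨c, ?_⟩
  rw [KLin.smul_id]
  refine Scheme.Modules.hom_ext _ _ fun U => ConcreteCategory.hom_ext _ _ fun a => ?_
  let one (V : X.Opens) : Γ(Coh.structureModule X, V) := (1 : Γ(X, V))
  have h1 : φ.app U (one U) = (Coh.structureModule X).presheaf.map (homOfLE (le_top : U ≤ ⊤)).op (φ.app ⊤ (one ⊤)) := by
    refine Eq.trans (congrArg (φ.app U) (show one U = (Coh.structureModule X).presheaf.map (homOfLE le_top).op (one ⊤)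
      from ((X.presheaf.map (homOfLE (le_top : U ≤ ⊤)).op).hom.map_one).symm)) ?_
    exact PresheafOfModules.naturality_apply φ.val (homOfLE (le_top : U ≤ ⊤)).op (one ⊤)
  have ha : (show Γ(X, U) from a) • one U = a := mul_one (show Γ(X, U) from a)
  refine Eq.trans ((congrArg (φ.app U) ha.symm).trans (Scheme.Modules.Hom.app_smul φ _ _)) ?_
  rw [h1]
  refine Eq.trans ?_ (KLin.smulModΓ_app_apply _ _ U a).symm
  show (show Γ(X, U) from a) * X.presheaf.map (homOfLE (le_top : U ≤ ⊤)).op _ =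
    X.presheaf.map (homOfLE (le_top : U ≤ ⊤)).op (Coh.toGlobal (X ↘ Spec (CommRingCat.of k)) c) * (show Γ(X, U) from a)
  rw [hc, mul_comm]

theorem end_scalar (h : Function.Bijective (Coh.toGlobal (X ↘ Spec (CommRingCat.of k)))) {L M : X.Modules}
    (e : CohB1.tensorMod L M ≅ Coh.structureModule X) (e' : CohB1.tensorMod M L ≅ Coh.structureModule X)
    (φ : L ⟶ L) : ∃ c : k, φ = c • 𝟙 _ := by
  let E := tensorEquiv M L e' e
  obtain ⟨c, hc⟩ := endO_scalar h (e'.inv ≫ E.functor.map φ ≫ e'.hom)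
  refine ⟨c, E.functor.map_injective ?_⟩
  have h2 : E.functor.map (c • 𝟙 L) = c • 𝟙 (E.functor.obj L) := by
    rw [KLin.smul_id, KLin.smul_id]
    exact ExtHom.tensorBi_map_smulModΓ _ _ _
  rw [h2]
  calc E.functor.map φ = e'.hom ≫ (e'.inv ≫ E.functor.map φ ≫ e'.hom) ≫ e'.inv := by simp
    _ = c • 𝟙 _ := by rw [hc]; simp

/-- a scalar matrix on `L^r` -/
def matEnd (L : X.Modules) {r : ℕ} (B : Matrix (Fin r) (Fin r) k) :
    (∐ fun _ : Fin r => L) ⟶ ∐ fun _ : Fin r => L :=
  Sigma.desc fun i => ∑ j, B i j • Sigma.ι (fun _ : Fin r => L) j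

theorem matEnd_mul (L : X.Modules) {r : ℕ} (B C : Matrix (Fin r) (Fin r) k) :
    matEnd L B ≫ matEnd L C = matEnd L (B * C) := by
  refine Sigma.hom_ext _ _ fun i => ?_
  simp only [matEnd, Sigma.ι_desc_assoc, Sigma.ι_desc, Preadditive.sum_comp, Linear.smul_comp, Finset.smul_sum,
    smul_smul, Matrix.mul_apply, Finset.sum_smul]
  exact Finset.sum_comm

theorem matEnd_one (L : X.Modules) (r : ℕ) : matEnd L (1 : Matrix (Fin r) (Fin r) k) = 𝟙 _ := by
  refine Sigma.hom_ext _ _ fun i => ?_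
  simp [matEnd, Matrix.one_apply]

theorem matEnd_add_smul (L : X.Modules) {r : ℕ} (B : Matrix (Fin r) (Fin r) k) (t : k) :
    matEnd L (B + t • 1) = matEnd L B + t • 𝟙 _ := by
  refine Sigma.hom_ext _ _ fun i => ?_
  simp [matEnd, Matrix.one_apply, add_smul, Finset.sum_add_distrib, Linear.comp_smul]

theorem exists_matEnd {L : X.Modules} (hL : ∀ φ : L ⟶ L, ∃ c : k, φ = c • 𝟙 _) {r : ℕ}
    (β : (∐ fun _ : Fin r => L) ⟶ ∐ fun _ : Fin r => L) : ∃ B : Matrix (Fin r) (Fin r) k, β = matEnd L B := by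
  classical
  choose B hB using fun i j => hL (Sigma.ι (fun _ : Fin r => L) i ≫ β ≫ Sigma.π (fun _ : Fin r => L) j)
  refine ⟨B, Sigma.hom_ext _ _ fun i => ?_⟩
  have hsum : ∑ j, Sigma.π (fun _ : Fin r => L) j ≫ Sigma.ι (fun _ : Fin r => L) j = 𝟙 _ := by
    refine Sigma.hom_ext _ _ fun i => ?_
    rw [Preadditive.comp_sum, Category.comp_id, Finset.sum_eq_single i]
    · rw [Sigma.ι_π_eq_id_assoc]
    · intro j _ hj
      rw [Sigma.ι_π_of_ne_assoc _ (Ne.symm hj), zero_comp]
    · intro h; exact absurd (Finset.mem_univ i) h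
  conv_lhs => rw [← Category.comp_id β, ← hsum, Preadditive.comp_sum]
  simp only [matEnd, Sigma.ι_desc, Preadditive.comp_sum]
  refine Finset.sum_congr rfl fun j _ => ?_
  rw [← Category.assoc, ← Category.assoc, Category.assoc (Sigma.ι _ i) β, hB, Linear.smul_comp, Category.id_comp]

theorem eventually_isIso {Q : X.Modules} {L : X.Modules} {r : ℕ} (e : Q ≅ ∐ fun _ : Fin r => L)
    (hL : ∀ φ : L ⟶ L, ∃ c : k, φ = c • 𝟙 _) (β : Q ⟶ Q) :
    ∀ᶠ t : k in Filter.cofinite, IsIso (β + t • 𝟙 Q) := by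
  obtain ⟨B, hB⟩ := exists_matEnd hL (e.inv ≫ β ≫ e.hom)
  refine ((Polynomial.finite_setOfPred_isRoot (Matrix.charpoly_monic (-B)).ne_zero).eventually_cofinite_notMem).mono
    fun t ht => ?_
  have hdet : IsUnit (B + t • 1).det := isUnit_iff_ne_zero.mpr fun h0 => ht (by
    show (Matrix.charpoly (-B)).IsRoot t
    rw [Polynomial.IsRoot, Matrix.eval_charpoly, sub_neg_eq_add, ← h0, add_comm B]
    congr 2
    ext i j
    simp [Matrix.scalar_apply, Matrix.diagonal, Matrix.one_apply])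
  haveI : IsIso (matEnd L (B + t • 1)) := ⟨matEnd L (B + t • 1)⁻¹,
    by rw [matEnd_mul, Matrix.mul_nonsing_inv _ hdet, matEnd_one],
    by rw [matEnd_mul, Matrix.nonsing_inv_mul _ hdet, matEnd_one]⟩
  have e2 : β + t • 𝟙 Q = e.hom ≫ matEnd L (B + t • 1) ≫ e.inv := by
    rw [matEnd_add_smul, ← hB]
    simp [Preadditive.add_comp, Preadditive.comp_add, Linear.smul_comp, Linear.comp_smul]
  rw [e2]
  infer_instance

omit [X.Over (Spec (CommRingCat.of k))] in
/-- Endomorphisms of a cokernel lift when `Ext¹(Q, P) = 0`. -/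
theorem exists_lift_coker [HasExt.{u} X.Modules] {P Q P' Q' : X.Modules} (f : P ⟶ Q) (f' : P' ⟶ Q') [Mono f']
    (h : Subsingleton (Abelian.Ext Q P' 1)) (φ : cokernel f ⟶ cokernel f') :
    ∃ (β : Q ⟶ Q') (γ : P ⟶ P'), γ ≫ f' = f ≫ β ∧ cokernel.π f ≫ φ = β ≫ cokernel.π f' := by
  have hS : (ShortComplex.mk f' (cokernel.π f') (cokernel.condition f')).ShortExact :=
    { exact := ShortComplex.exact_of_g_is_cokernel _ (cokernelIsCokernel f') }
  obtain ⟨g, hg⟩ := Abelian.Ext.covariant_sequence_exact₃ _ hS (Abelian.Ext.mk₀ (cokernel.π f ≫ φ))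
    (show 0 + 1 = 1 from rfl) (Subsingleton.elim _ _)
  obtain ⟨β, rfl⟩ := (Abelian.Ext.mk₀_bijective _ _).2 g
  rw [Abelian.Ext.mk₀_comp_mk₀] at hg
  have hβ := (Abelian.Ext.mk₀_bijective _ _).1 hg
  have h0 : (f ≫ β) ≫ cokernel.π f' = 0 := by
    rw [Category.assoc, hβ, ← Category.assoc, cokernel.condition, zero_comp]
  exact ⟨β, Abelian.monoLift f' (f ≫ β) h0, Abelian.monoLift_comp f' (f ≫ β) h0, hβ.symm⟩

/-- The cokernel is simple when only scalars stabilise the map. -/
theorem exists_smul_of_shift {P Q : X.Modules} (f : P ⟶ Q) (β : Q ⟶ Q) (γ : P ⟶ P)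
    (φ : cokernel f ⟶ cokernel f) (hφ : cokernel.π f ≫ φ = β ≫ cokernel.π f) (t c : k)
    (hc : β + t • 𝟙 Q = c • 𝟙 Q) : φ = (c - t) • 𝟙 _ := by
  refine (cancel_epi (cokernel.π f)).mp ?_
  have h2 : β = (c - t) • 𝟙 Q := by rw [sub_smul, ← hc, add_sub_cancel_right]
  rw [hφ, h2, Linear.smul_comp, Linear.comp_smul, Category.id_comp, Category.comp_id]

end Groth.Agent.VBStable
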