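import Groth.Agent.VBStable.Factor
import Groth.Agent.SerrePn.ExtTwist
import Groth.Agent.SerrePn.Lau
import Groth.Agent.PicPn.Main
import Groth.Agent.DualAbs.Depth
import Groth.Agent.RegLoc.UFD
import Groth.Agent.ProjTwist.Pn.Finite
import Groth.Agent.HomShQC.Basic
import Groth.Agent.FormalFun.Powers
import Groth.Agent.ProperFin.Descend
import Groth.Agent.FFCurve.Pic
import Groth.Agent.VBLib.Basic
import Groth.Agent.S18573
import Mathlib.RingTheory.IntegralClosure.IsIntegral.Defs
import Mathlib.FieldTheory.IsAlgClosed.Basic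
import Mathlib.FieldTheory.Minpoly.Field

/-!
# Stable bundles of rank two on `P^n` are simple
-/

set_option autoImplicit false

universe u

open CategoryTheory Limits AlgebraicGeometry Opposite TopologicalSpace
open Groth.Agent

noncomputable section

namespace Groth.Agent.VBStable

open Groth.Agent.Ref1 Groth.Agent.PullStalk.Sky

section Basic

variable {X : Scheme.{u}}

/-- No global sections, no morphisms from the structure module. -/
theorem hom_unit_eq_zero {G : X.Modules} (h : Subsingleton (Coh.HH X G 0))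
    (s : Coh.structureModule X ⟶ G) : s = 0 := by
  haveI : Subsingleton Γ(G, ⊤) := (ProperFin.h0Sec G).symm.toEquiv.subsingleton
  apply Scheme.Modules.hom_ext
  intro U
  ext a
  show s.app U a = 0
  have e : Props.GenLocus.sec s U = 0 := by
    rw [← Props.GenLocus.sec_res s (le_top : U ≤ ⊤), Subsingleton.elim (Props.GenLocus.sec s ⊤) 0]
    exact map_zero _
  refine (Props.GenLocus.app_eq s U a).trans ?_
  rw [e]
  exact smul_zero _

variable [IsIntegral X]

/-- Cancellation of a nonzero map between invertible modules. -/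
theorem eq_zero_of_comp_eq_zero {L M E : X.Modules} (hL : PicF.IsInvertible L) (hM : PicF.IsInvertible M)
    (hE : ∀ x, Function.Injective (toη E x)) (μ : L ⟶ M) (hμ : μ ≠ 0) (g : M ⟶ E) (h : μ ≫ g = 0)
    (hfree : Module.IsTorsionFree (X.presheaf.stalk (genericPoint X)) (E.presheaf.stalk (genericPoint X))) :
    g = 0 := by
  let η := genericPoint X
  let t := FFCurve.triv hM
  obtain ⟨w, hw⟩ : ∃ w, RefHull.stalkMapₗ μ η w ≠ 0 := by
    by_contra hc
    push Not at hc
    refine hμ (hom_ext_η (fun x => FFCurve.toη_injective_of_invertible hM x)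
      (LinearMap.ext fun w => (hc w).trans ?_))
    exact (Omega.Stalks.stalkLin_zero η w).symm
  refine hom_ext_η hE (LinearMap.ext fun v => ?_)
  refine Eq.trans ?_ (Omega.Stalks.stalkLin_zero η v).symm
  have e : t (RefHull.stalkMapₗ μ η w) • v = t v • RefHull.stalkMapₗ μ η w :=
    t.injective (by rw [map_smul, map_smul, smul_eq_mul, smul_eq_mul, mul_comm])
  have e2 := congrArg (RefHull.stalkMapₗ g η) e
  rw [map_smul, map_smul] at e2
  have h0 : RefHull.stalkMapₗ g η (RefHull.stalkMapₗ μ η w) = 0 := by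
    refine (Omega.Stalks.stalkLin_comp μ g η w).symm.trans ?_
    rw [h]
    exact Omega.Stalks.stalkLin_zero η w
  rw [h0, smul_zero] at e2
  haveI := hfree
  exact (smul_eq_zero.mp e2).resolve_left fun ht => hw (t.injective (ht.trans (map_zero t).symm))

end Basic

section Pn

variable (k : Type u) [Field k] (n : ℕ)

theorem isIntegral_projSpace : IsIntegral (CohB1.ProjSpace n k) := by
  haveI : ∀ y : CohB1.ProjSpace n k, _root_.IsReduced ((CohB1.ProjSpace n k).presheaf.stalk y) := fun y =>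
    haveI := DualAbs.isRegularLocalRing_stalk (k := k) (N := n) y
    haveI := RegLoc.isDomain ((CohB1.ProjSpace n k).presheaf.stalk y)
    inferInstance
  haveI : IsReduced (CohB1.ProjSpace n k) := isReduced_of_isReduced_stalk _
  haveI := S18573.irreducibleSpace_projSpace n k
  exact isIntegral_of_irreducibleSpace_of_isReduced _

theorem ufd_stalk (x : CohB1.ProjSpace n k) :
    UniqueFactorizationMonoid ((CohB1.ProjSpace n k).presheaf.stalk x) :=
  haveI := DualAbs.isRegularLocalRing_stalk (k := k) (N := n) x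
  RegLoc.UFD.uniqueFactorizationMonoid _

theorem mult_zero (a b : ℤ) :
    SerrePn.mult (0 : Twist.twistProjSpace n k a ⟶ Twist.twistProjSpace n k b) = 0 := by
  have h0 : ∀ {I : Finset (Fin (n + 1))} (hI : I.Nonempty)
      (z : Twist.sectN (𝒜 := CohB1.polyGrading n k) b (op (ProjTwist.Pn.dI k I))), z + z = z →
      ProjTwist.Pn.secLau (R := k) b hI z = 0 := fun hI z hz =>
    left_eq_add.mp ((congrArg _ hz.symm).trans (ProjTwist.Pn.secLau_add (R := k) b hI z z))
  show SerrePn.multAt (0 : Twist.twistProjSpace n k a ⟶ Twist.twistProjSpace n k b) 0 = 0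
  rw [SerrePn.multAt]
  refine (congrArg (_ * ·) ?_).trans (mul_zero _)
  exact h0 _ _ (Subtype.ext (funext fun _ => add_zero _))

variable {k n}
variable [IsIntegral (CohB1.ProjSpace n k)] [IsLocallyNoetherian (CohB1.ProjSpace n k)]
variable {E : (CohB1.ProjSpace n k).Modules} (hE : FlatMod.IsFinLocFreeOfRank 2 E)
include hE

theorem isTorsionFree_stalk (x : CohB1.ProjSpace n k) :
    Module.IsTorsionFree ((CohB1.ProjSpace n k).presheaf.stalk x) (E.presheaf.stalk x) := by
  obtain ⟨b⟩ := exists_basis_stalk_rank hE x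
  haveI := Module.Free.of_basis b
  infer_instance

theorem isCoh_of_rank : Coh.IsCoh E :=
  VBLib.isCoh_of_isFinLocFree fun x => let ⟨U, hx, h⟩ := hE x; ⟨U, 2, hx, h⟩

/-- Without sections in `E(k₀)`, there are no maps `O(m) ⟶ E` for `-k₀ ≤ m`. -/
theorem hom_twist_eq_zero {k₀ : ℤ}
    (h0 : Subsingleton (Coh.HH (CohB1.ProjSpace n k) (CohB1.tensorMod E (Twist.twistProjSpace n k k₀)) 0))
    (m : ℤ) (hm : -k₀ ≤ m) (g : Twist.twistProjSpace n k m ⟶ E) : g = 0 := by
  let d := (m + k₀).toNat
  have hd : (d : ℤ) + -k₀ = m := by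
    simp only [d, Int.toNat_of_nonneg (by omega : 0 ≤ m + k₀)]
    ring
  have hp : (MvPolynomial.X 0 : MvPolynomial (Fin (n + 1)) k) ^ d ∈ CohB1.polyGrading n k d :=
    (MvPolynomial.mem_homogeneousSubmodule _ _).mpr (by simpa using (MvPolynomial.isHomogeneous_X k (0 : Fin (n + 1))).pow d)
  let μ := SerrePn.mulHom (-k₀) m hp hd
  have hμ : μ ≠ 0 := fun h => by
    have e := SerrePn.mult_mulHom hp hd
    rw [show SerrePn.mulHom (-k₀) m hp hd = 0 from h, mult_zero] at e
    exact pow_ne_zero d (MvPolynomial.X_ne_zero (0 : Fin (n + 1)))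
      (ProjTwist.Pn.toLau_injective (e.symm.trans (map_zero _).symm))
  have hμg : μ ≫ g = 0 := by
    have := (SerrePn.twEquiv (n := n) (R := k) k₀).functor.map_injective (a₁ := μ ≫ g) (a₂ := 0)
    refine this ?_
    have key : ∀ s : (SerrePn.twL n k k₀).obj (Twist.twistProjSpace n k (-k₀)) ⟶ (SerrePn.twL n k k₀).obj E,
        s = 0 := fun s => by
      let e₁ : Coh.structureModule (CohB1.ProjSpace n k) ≅
          (SerrePn.twL n k k₀).obj (Twist.twistProjSpace n k (-k₀)) :=
        ((ProjTwist.nonempty_twistProjSpace_tensor n k k₀ (-k₀)).some ≪≫ eqToIso (by rw [add_neg_cancel]; rfl) ≪≫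
          (ProjTwist.twistZeroIso (CohB1.polyGrading n k)).symm).symm
      let e₂ : (SerrePn.twL n k k₀).obj E ≅ CohB1.tensorMod E (Twist.twistProjSpace n k k₀) :=
        ProjTwist.tensComm (Twist.twistProjSpace n k k₀) E
      have hs := hom_unit_eq_zero h0 (e₁.hom ≫ s ≫ e₂.hom)
      rw [← cancel_epi e₁.hom, ← cancel_mono e₂.hom, Category.assoc, hs]
      simp
    exact (key _).trans (key _).symm
  exact eq_zero_of_comp_eq_zero (ProjTwist.isInvertible_twistProjSpace n k _)
    (ProjTwist.isInvertible_twistProjSpace n k _)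
    (fun x => haveI := (isCoh_of_rank hE).1; toη_injective E x (isTorsionFree_stalk hE x))
    μ hμ g hμg (isTorsionFree_stalk hE _)

/-- Every nonzero endomorphism is a monomorphism. -/
theorem mono_of_ne_zero {c k₀ : ℤ}
    (hdet : ∃ L, ExtPow.IsExtPow 2 E L ∧ Nonempty (L ≅ Twist.twistProjSpace n k c))
    (hk₀ : -1 ≤ c + 2 * k₀)
    (h0 : Subsingleton (Coh.HH (CohB1.ProjSpace n k) (CohB1.tensorMod E (Twist.twistProjSpace n k k₀)) 0))
    (ψ : E ⟶ E) (hψ : ψ ≠ 0) : Mono ψ := by
  by_contra hnm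
  obtain ⟨L, hL, ⟨eL⟩⟩ := hdet
  obtain ⟨hK, hι, hF⟩ := exists_kernel_and_factor (ufd_stalk k n) hE (isCoh_of_rank hE) hL ψ hψ hnm
  obtain ⟨a, ⟨eK⟩⟩ := PicPn.exists_iso_twist hK
  have ha : a < -k₀ := lt_of_not_ge fun ha => hι (by
    have h1 := hom_twist_eq_zero hE h0 a ha (eK.inv ≫ kernel.ι ψ)
    rw [← cancel_epi eK.inv, h1, comp_zero])
  obtain ⟨h, hh⟩ := hF (Twist.twistProjSpace n k (c - a)) (ProjTwist.isInvertible_twistProjSpace n k _)
    ⟨ProjTwist.tensCongr (Iso.refl _) eK ≪≫ (ProjTwist.nonempty_twistProjSpace_tensor n k (c - a) a).some ≪≫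
      eqToIso (by rw [sub_add_cancel]) ≪≫ eL.symm⟩
  have hb : c - a < -k₀ := lt_of_not_ge fun hb => hh (hom_twist_eq_zero hE h0 _ hb h)
  omega

theorem exists_finite_embedding :
    letI : (CohB1.ProjSpace n k).Over (Spec (CommRingCat.of k)) := ⟨CohB1.ProjSpace.toSpec n k⟩
    ∃ (V : Type u) (_ : AddCommGroup V) (_ : Module k V) (_ : Module.Finite k V) (f : (E ⟶ E) →+ V),
      Function.Injective f ∧ ∀ (a : k) φ, f (Formal.smulMod k E a ≫ φ) = a • f φ := by
  letI : (CohB1.ProjSpace n k).Over (Spec (CommRingCat.of k)) := ⟨CohB1.ProjSpace.toSpec n k⟩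
  let H := RefHull.homSh E E
  have hfin : Module.Finite k (Coh.HH (CohB1.ProjSpace n k) H 0) :=
    ProjTwist.Pn.finite_cohomology H (HomShQC.isCoh_homSh E E (isCoh_of_rank hE) (isCoh_of_rank hE)) 0
  have hadd : ∀ φ φ' : E ⟶ E, RefHull.ofHom (φ + φ') ⊤ = RefHull.ofHom φ ⊤ + RefHull.ofHom φ' ⊤ :=
    fun φ φ' => Subtype.ext (funext fun x => LinearMap.ext fun t => CohDev.stalkLin_add_apply φ φ' x.1 t)
  refine ⟨_, inferInstance, inferInstance, hfin,
    AddMonoidHom.mk' (fun φ => (ProperFin.h0Sec H).symm (RefHull.ofHom φ ⊤))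
      (fun φ φ' => by rw [hadd, map_add]), fun φ φ' h => ?_, fun a φ => ?_⟩
  · refine Omega.Stalks.hom_ext_stalk fun x => ?_
    exact congrFun (congrArg Subtype.val ((ProperFin.h0Sec H).symm.injective h)) ⟨x, trivial⟩
  · show (ProperFin.h0Sec H).symm _ = a • (ProperFin.h0Sec H).symm _
    refine (ProperFin.h0Sec H).injective ?_
    rw [AddEquiv.apply_symm_apply]
    refine Eq.trans ?_ (ProperFin.h0Sec_smul H (Coh.toGlobal (CohB1.ProjSpace.toSpec n k) a) _).symm
    rw [AddEquiv.apply_symm_apply]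
    refine Subtype.ext (funext fun x => LinearMap.ext fun t => ?_)
    obtain ⟨U, hx, m, rfl⟩ := exists_germM_eq E x.1 t
    refine (RefHull.stalkMapₗ_germ (Formal.smulMod k E a ≫ φ) x.1 hx m).trans ?_
    have e : (Formal.smulMod k E a ≫ φ).app U m = FormalFun.gA (A := k) U a • φ.app U m := by
      show φ.app U ((Formal.smulMod k E a).app U m) = _
      rw [FormalFun.smulMod_app, Scheme.Modules.Hom.app_smul]
    refine (congrArg _ e).trans ?_
    refine (germM_smul E U x.1 hx _ _).trans ?_
    show _ = (CohB1.ProjSpace n k).presheaf.germ ⊤ x.1 x.2 (Coh.toGlobal (CohB1.ProjSpace.toSpec n k) a) •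
      RefHull.stalkMapₗ φ x.1 (germM E U x.1 hx m)
    refine congrArg₂ (· • ·) ?_ (RefHull.stalkMapₗ_germ φ x.1 hx m).symm
    exact (CohB1.ProjSpace n k).presheaf.germ_res_apply (homOfLE (le_top : U ≤ ⊤)) x.1 hx _

/-- Over an algebraically closed field every endomorphism is a scalar. -/
theorem exists_eq_smulMod [IsAlgClosed k]
    (hmono : ∀ ψ : E ⟶ E, ψ ≠ 0 → Mono ψ) (φ : E ⟶ E) :
    letI : (CohB1.ProjSpace n k).Over (Spec (CommRingCat.of k)) := ⟨CohB1.ProjSpace.toSpec n k⟩
    ∃ c : k, φ = Formal.smulMod k E c := by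
  letI : (CohB1.ProjSpace n k).Over (Spec (CommRingCat.of k)) := ⟨CohB1.ProjSpace.toSpec n k⟩
  obtain ⟨V, _, _, hV, f, hf, hfs⟩ := exists_finite_embedding hE
  let f' : End E →ₗ[k] V :=
    { toFun := fun x => f x
      map_add' := fun x y => map_add f x y
      map_smul' := fun a x => hfs a x }
  haveI : Module.Finite k V := hV
  haveI : Module.Finite k (End E) := Module.Finite.of_injective f' hf
  let φ' : End E := φ
  haveI : Algebra.IsIntegral k (End E) := Algebra.IsIntegral.of_finite k (End E)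
  by_cases hE0 : (1 : End E) = 0
  · exact ⟨0, ((mul_one φ').symm.trans (by rw [hE0, mul_zero])).trans (FormalFun.smulMod_zero E).symm⟩
  haveI : Nontrivial (End E) := nontrivial_of_ne _ _ hE0
  obtain ⟨p, hp, hpφ⟩ := Algebra.IsIntegral.isIntegral (R := k) φ'
  suffices H : ∀ (q : Polynomial k), q.Monic → Polynomial.aeval φ' q = 0 →
      ∃ c : k, φ = Formal.smulMod k E c from H p hp hpφ
  intro q
  induction hd : q.natDegree using Nat.strong_induction_on generalizing q with
  | _ d ih =>
    intro hq hq0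
    have hdeg : q.degree ≠ 0 := fun h => by
      rw [Polynomial.eq_one_of_monic_natDegree_zero hq
        (Polynomial.natDegree_eq_zero_iff_degree_le_zero.mpr h.le), map_one] at hq0
      exact hE0 hq0
    obtain ⟨r, hr⟩ := IsAlgClosed.exists_root q hdeg
    obtain ⟨s, rfl⟩ := Polynomial.dvd_iff_isRoot.mpr hr
    by_cases hc : φ' - algebraMap k (End E) r = 0
    · refine ⟨r, (sub_eq_zero.mp hc).trans ?_⟩
      rw [Algebra.algebraMap_eq_smul_one]
      exact KLin.smul_id E r
    rw [map_mul, map_sub, Polynomial.aeval_X, Polynomial.aeval_C] at hq0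
    have hs : s.Monic := (Polynomial.monic_X_sub_C r).of_mul_monic_left hq
    have hψ := hmono (φ' - algebraMap k (End E) r) hc
    refine ih s.natDegree ?_ s rfl hs ?_
    · rw [← hd, Polynomial.Monic.natDegree_mul (Polynomial.monic_X_sub_C r) hs, Polynomial.natDegree_X_sub_C]
      omega
    · exact (cancel_mono (φ' - algebraMap k (End E) r : E ⟶ E)).mp (hq0.trans zero_comp.symm)

end Pn

end Groth.Agent.VBStable
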