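import Groth.Agent.VBStable.Factor
import Groth.Agent.Props.GenLocus
import Groth.Agent.CycLib.DevRat
import Mathlib.AlgebraicGeometry.Morphisms.Proper

/-!
# A globally generated bundle with trivial determinant is trivial
-/

set_option autoImplicit false

universe u

open CategoryTheory Limits AlgebraicGeometry Opposite TopologicalSpace
open Groth.Agent

noncomputable section

namespace Groth.Agent.VBStable

open Groth.Agent.Ref1 Groth.Agent.ExtPowSt Groth.Agent.HomShQC Groth.Agent.PullStalk.Sky

variable {X : Scheme.{u}}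

/-- The germ of the global section `1`. -/
def germOne (x : X) : (Coh.structureModule X).presheaf.stalk x :=
  germM (Coh.structureModule X) ⊤ x trivial (Props.GenLocus.one' ⊤)

theorem eq_smul_germOne (x : X) (w : (Coh.structureModule X).presheaf.stalk x) :
    ∃ a : X.presheaf.stalk x, w = a • germOne x := by
  refine ⟨(unitStalk x).symm w, ?_⟩
  conv_lhs => rw [← (unitStalk x).apply_symm_apply w]
  rfl

theorem stalk_germOne {E : X.Modules} (s : Coh.structureModule X ⟶ E) (x : X) :
    RefHull.stalkMapₗ s x (germOne x) = germM E ⊤ x trivial (Props.GenLocus.sec s ⊤) :=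
  RefHull.stalkMapₗ_germ (U := ⊤) s x trivial _

/-- The stalk of a free module is generated by the germs of the standard sections. -/
theorem free_decomp {n : ℕ} (x : X) (z : (FlatMod.freeMod X n).presheaf.stalk x) :
    ∃ a : Fin n → X.presheaf.stalk x, z = ∑ j, a j •
      RefHull.stalkMapₗ (Sigma.ι (fun _ : Fin n => Coh.structureModule X) j) x (germOne x) := by
  classical
  let π : Fin n → (FlatMod.freeMod X n ⟶ Coh.structureModule X) := fun j =>
    Sigma.desc fun i => if i = j then 𝟙 _ else 0
  have hid : 𝟙 (FlatMod.freeMod X n) =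
      ∑ j, π j ≫ Sigma.ι (fun _ : Fin n => Coh.structureModule X) j := by
    refine Sigma.hom_ext _ _ fun i => ?_
    simp [π, Preadditive.comp_sum, ite_comp]
  choose a ha using fun j => eq_smul_germOne x (RefHull.stalkMapₗ (π j) x z)
  refine ⟨a, ?_⟩
  have h := congrArg (fun f : FlatMod.freeMod X n ⟶ FlatMod.freeMod X n => RefHull.stalkMapₗ f x z) hid
  refine ((CohDev.stalkLin_id_apply x z).symm.trans h).trans ?_
  let ev : (FlatMod.freeMod X n ⟶ FlatMod.freeMod X n) →+ (FlatMod.freeMod X n).presheaf.stalk x :=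
    AddMonoidHom.mk' (fun f => RefHull.stalkMapₗ f x z) (fun f g => CohDev.stalkLin_add_apply f g x z)
  refine (map_sum ev _ Finset.univ).trans (Finset.sum_congr rfl fun j _ => ?_)
  refine (Omega.Stalks.stalkLin_comp (π j) _ x z).trans ?_
  show RefHull.stalkMapₗ _ x (RefHull.stalkMapₗ (π j) x z) = _
  rw [ha j, map_smul]

/-- The exterior product of global sections. -/
theorem exists_detSec {r : ℕ} {E L : X.Modules} [E.IsQuasicoherent] (Φ : Sys r E L) (e : Fin r → Γ(E, ⊤)) :
    ∃ σ : Γ(L, ⊤), ∀ x : X, stalkEquiv Φ x (germM L ⊤ x trivial σ) =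
      exteriorPower.ιMulti (X.presheaf.stalk x) r fun j => germM E ⊤ x trivial (e j) := by
  let t : ∀ y : (⊤ : X.Opens), L.presheaf.stalk y.1 := fun y =>
    (stalkEquiv Φ y.1).symm (exteriorPower.ιMulti (X.presheaf.stalk y.1) r fun j => germM E ⊤ y.1 trivial (e j))
  obtain ⟨σ, hσ⟩ := exists_sec L t fun y => by
    obtain ⟨_, ⟨W, hW, rfl⟩, hyW, -⟩ :=
      X.isBasis_affineOpens.exists_subset_of_mem_open (Set.mem_univ y.1) isOpen_univ
    refine ⟨W, hyW, le_top, (Φ.1 ⟨W, hW⟩).symm (exteriorPower.ιMulti Γ(X, W) r fun j =>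
      resS E (le_top : W ≤ ⊤) (e j)), fun z => ?_⟩
    refine (stalkEquiv Φ z.1).injective ?_
    rw [LinearEquiv.apply_symm_apply]
    refine Eq.trans ?_ (stalkMap_germ Φ ⟨W, hW⟩ z.1 z.2 _).symm
    rw [germExt, LinearEquiv.apply_symm_apply, extσ_ιMulti]
    congr 1
    funext j
    exact (germS_resS E (le_top : W ≤ ⊤) z.1 z.2 (e j)).symm
  refine ⟨σ, fun x => ?_⟩
  rw [hσ ⟨x, trivial⟩]
  exact LinearEquiv.apply_symm_apply _ _

variable [IsIntegral X]

/-- A globally generated bundle with trivial determinant on an integral proper scheme over a field is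
trivial. -/
theorem nonempty_iso_free_of_generated {K : Type u} [Field K] (f : X ⟶ Spec (CommRingCat.of K))
    [UniversallyClosed f] {r : ℕ} {E L : X.Modules} [E.IsQuasicoherent] (hE : FlatMod.IsFinLocFreeOfRank r E)
    (hL : ExtPow.IsExtPow r E L) (θ : L ≅ Coh.structureModule X) {N : ℕ} (ψ : FlatMod.freeMod X N ⟶ E)
    [Epi ψ] : Nonempty (E ≅ FlatMod.freeMod X r) := by
  classical
  obtain ⟨φ, hφ⟩ := hL
  let Φ : Sys r E L := ⟨φ, hφ⟩
  let η := genericPoint X
  let g : Fin N → Γ(E, ⊤) := fun j =>
    Props.GenLocus.sec (Sigma.ι (fun _ : Fin N => Coh.structureModule X) j ≫ ψ) ⊤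
  have hb : ∀ x : X, Nonempty (Module.Basis (Fin r) (X.presheaf.stalk x) (E.presheaf.stalk x)) :=
    fun x => exists_basis_stalk_rank hE x
  let b := fun x => (hb x).some
  -- the germs of the `g j` generate
  have hgen : ∀ (x : X) (v : E.presheaf.stalk x), ∃ c : Fin N → X.presheaf.stalk x,
      v = ∑ j, c j • germM E ⊤ x trivial (g j) := by
    intro x v
    obtain ⟨z, hz⟩ := Groth.Agent.PullStalk.Exact.stalk_surjective ψ x v
    obtain ⟨c, rfl⟩ := free_decomp x z
    refine ⟨c, hz.symm.trans ?_⟩
    refine (map_sum (RefHull.stalkMapₗ ψ x) _ _).trans (Finset.sum_congr rfl fun j _ => ?_)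
    rw [map_smul]
    refine congrArg (c j • ·) ((Omega.Stalks.stalkLin_comp _ ψ x (germOne x)).symm.trans ?_)
    exact stalk_germOne _ x
  -- some tuple is independent at the generic point
  obtain ⟨I, hI⟩ : ∃ I : Fin r → Fin N, (b η).det (fun i => germM E ⊤ η trivial (g (I i))) ≠ 0 := by
    by_contra hc
    push Not at hc
    choose c hc' using fun i => hgen η (b η i)
    have h1 := (b η).det_self
    have h2 : (b η).det (fun i => ∑ j, c i j • germM E ⊤ η trivial (g j)) = 0 := by
      refine ((b η).det.toMultilinearMap.map_sum _).trans (Finset.sum_eq_zero fun I _ => ?_)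
      rw [MultilinearMap.map_smul_univ]
      exact (congrArg ((∏ i, c i (I i)) • ·) (hc I)).trans (smul_zero _)
    rw [show (fun i => ∑ j, c i j • germM E ⊤ η trivial (g j)) = b η from funext fun i => (hc' i).symm,
      h1] at h2
    exact one_ne_zero h2
  obtain ⟨σ, hσ⟩ := exists_detSec Φ fun i => g (I i)
  let a : Γ(X, ⊤) := θ.hom.app ⊤ σ
  have hθ : ∀ x : X, RefHull.stalkMapₗ θ.hom x (germM L ⊤ x trivial σ) =
      unitStalk x (X.presheaf.germ ⊤ x trivial a) := fun x =>
    (RefHull.stalkMapₗ_germ (U := ⊤) θ.hom x trivial σ).trans (unitStalk_germ (U := ⊤) x trivial a).symm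
  have ha : a ≠ 0 := by
    intro h0
    refine hI ?_
    have h1 : germM L ⊤ η trivial σ = 0 := by
      apply CohDev.stalk_injective θ.hom η
      refine (hθ η).trans ?_
      rw [h0, map_zero, map_zero]
      exact (map_zero _).symm
    let detL : ↥(⋀[X.presheaf.stalk η]^r (E.presheaf.stalk η)) →ₗ[X.presheaf.stalk η] X.presheaf.stalk η :=
      exteriorPower.alternatingMapLinearEquiv (b η).det
    have h2 : detL (exteriorPower.ιMulti (X.presheaf.stalk η) r fun i => germM E ⊤ η trivial (g (I i))) = 0 := by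
      rw [← hσ η, h1, map_zero, map_zero]
    simpa [detL] using h2
  have hau : IsUnit a := by
    obtain ⟨a', ha'⟩ := (isField_of_universallyClosed K f).mul_inv_cancel ha
    exact IsUnit.of_mul_eq_one a' ha'
  have hbij : ∀ x : X, Function.Bijective (LFFrame.stalkComb E (fun i => g (I i)) x trivial) := by
    intro x
    let detL : ↥(⋀[X.presheaf.stalk x]^r (E.presheaf.stalk x)) →ₗ[X.presheaf.stalk x] X.presheaf.stalk x :=
      exteriorPower.alternatingMapLinearEquiv (b x).det
    obtain ⟨z, hz⟩ := (stalkEquiv Φ x).surjective (exteriorPower.ιMulti (X.presheaf.stalk x) r (b x))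
    obtain ⟨u, hu⟩ := hau.map (X.presheaf.germ ⊤ x trivial).hom
    let w := (unitStalk x).symm (RefHull.stalkMapₗ θ.hom x z)
    have hzw : z = (w * (u⁻¹ : (X.presheaf.stalk x)ˣ)) • germM L ⊤ x trivial σ := by
      apply CohDev.stalk_injective θ.hom x
      show RefHull.stalkMapₗ θ.hom x z = RefHull.stalkMapₗ θ.hom x _
      rw [map_smul, hθ, ← map_smul, smul_eq_mul, ← hu, mul_assoc, Units.inv_mul, mul_one]
      exact ((unitStalk x).apply_symm_apply _).symm
    have h1 := congrArg detL hz
    rw [hzw, map_smul, map_smul, hσ] at h1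
    simp only [detL, exteriorPower.alternatingMapLinearEquiv_apply_ιMulti, Module.Basis.det_self,
      smul_eq_mul] at h1
    obtain ⟨hli, hsp⟩ := (Module.Basis.is_basis_iff_det (b x)).mpr
      (IsUnit.of_mul_eq_one _ ((mul_comm _ _).trans h1))
    have e : ⇑(LFFrame.stalkComb E (fun i => g (I i)) x trivial) =
        ⇑(Module.Basis.mk hli hsp.ge).equivFun.symm := funext fun c => by
      rw [Module.Basis.equivFun_symm_apply]
      simp [LFFrame.stalkComb, Fintype.linearCombination_apply]
    rw [e]
    exact (Module.Basis.mk hli hsp.ge).equivFun.symm.bijective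
  let χ : FlatMod.freeMod X r ⟶ E := Sigma.desc fun i => Props.GenLocus.homOfSec (g (I i))
  have hχ : ∀ (x : X) (i : Fin r),
      RefHull.stalkMapₗ χ x (RefHull.stalkMapₗ (Sigma.ι (fun _ : Fin r => Coh.structureModule X) i) x (germOne x)) =
        germM E ⊤ x trivial (g (I i)) := by
    intro x i
    refine (Omega.Stalks.stalkLin_comp _ χ x (germOne x)).symm.trans ?_
    refine (stalk_germOne _ x).trans (congrArg _ ?_)
    rw [Sigma.ι_desc, Props.GenLocus.sec_homOfSec]
    exact QCoh.res_self _ _ _
  haveI : IsIso χ := by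
    refine Omega.Stalks.isIso_of_stalk fun x => ?_
    have hlin : ∀ c : Fin r → X.presheaf.stalk x, RefHull.stalkMapₗ χ x (∑ i, c i •
        RefHull.stalkMapₗ (Sigma.ι (fun _ : Fin r => Coh.structureModule X) i) x (germOne x)) =
        LFFrame.stalkComb E (fun i => g (I i)) x trivial c := by
      intro c
      refine (map_sum (RefHull.stalkMapₗ χ x) _ _).trans ?_
      simp only [map_smul, hχ, LFFrame.stalkComb, Fintype.linearCombination_apply]
    refine ⟨fun z z' h => ?_, fun v => ?_⟩
    · obtain ⟨c, rfl⟩ := free_decomp x z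
      obtain ⟨c', rfl⟩ := free_decomp x z'
      rw [(hbij x).1 ((hlin c).symm.trans (h.trans (hlin c')))]
    · obtain ⟨c, hc⟩ := (hbij x).2 v
      exact ⟨_, (hlin c).trans hc⟩
  exact ⟨(asIso χ).symm⟩

end Groth.Agent.VBStable
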