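import Groth.Agent.VBStable.Main
import Groth.Agent.ProjTwist.Pn.Twist
import Groth.Agent.ProjTwist.Pn.H0
import Groth.Agent.ProjTwist.Pn.Coh
import Groth.Prelude.Def_ClSub2
import Groth.Agent.LFFrame.Basic

/-!
# Sections of twists of Serre bundles on `P^n`

For `0 → O → E → J(c) → 0` on `P^n`, `n ≥ 2`, and `k₀`: `H⁰(E(k₀)) = 0 ↔ k₀ < 0 ∧ H⁰(J(c + k₀)) = 0`, and
vanishing of `H⁰(J(d))` passes to smaller `d`.
-/

set_option autoImplicit false

universe u

open CategoryTheory Limits AlgebraicGeometry Opposite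
open Groth.Agent

noncomputable section

namespace Groth.Agent.VBStable

section Gen

variable {X : Scheme.{u}} [IsIntegral X]

/-- A nonzero map of invertible modules is a monomorphism. -/
theorem mono_of_invertible {L M : X.Modules} (hL : PicF.IsInvertible L) (hM : PicF.IsInvertible M)
    (μ : L ⟶ M) (hμ : μ ≠ 0) : Mono μ := by
  let η := genericPoint X
  let t := FFCurve.triv hL
  obtain ⟨w, hw⟩ : ∃ w, RefHull.stalkMapₗ μ η w ≠ 0 := by
    by_contra hc
    push Not at hc
    refine hμ (Ref1.hom_ext_η (fun x => FFCurve.toη_injective_of_invertible hM x)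
      (LinearMap.ext fun w => (hc w).trans ?_))
    exact (Omega.Stalks.stalkLin_zero η w).symm
  refine Omega.Stalks.mono_of_stalk fun x => (injective_iff_map_eq_zero _).mpr fun v hv => ?_
  apply FFCurve.toη_injective_of_invertible hL x
  rw [map_zero]
  have h1 : RefHull.stalkMapₗ μ η (Ref1.toη L x v) = 0 := by
    refine (Ref1.sp_stalkMap μ (Ref1.hsp x) v).symm.trans ?_
    exact (congrArg _ hv).trans (map_zero _)
  have e : t w • Ref1.toη L x v = t (Ref1.toη L x v) • w :=
    t.injective (by rw [map_smul, map_smul, smul_eq_mul, smul_eq_mul, mul_comm])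
  have e2 := congrArg (RefHull.stalkMapₗ μ η) e
  rw [map_smul, map_smul, h1, smul_zero] at e2
  have h2 : t (Ref1.toη L x v) = 0 := by
    by_contra h3
    exact hw ((Ref1.isUnit_of_ne_zero h3).smul_eq_zero.mp e2.symm)
  exact t.injective (h2.trans (map_zero t).symm)

end Gen

section Pn

variable {k : Type u} [Field k] {n : ℕ}

theorem mulHom_pow_ne_zero (a b : ℤ) (d : ℕ) (h : (d : ℤ) + a = b)
    (hp : (MvPolynomial.X 0 : MvPolynomial (Fin (n + 1)) k) ^ d ∈ CohB1.polyGrading n k d) :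
    SerrePn.mulHom a b hp h ≠ 0 := fun h0 => by
  have e := SerrePn.mult_mulHom hp h
  rw [h0, mult_zero] at e
  exact pow_ne_zero d (MvPolynomial.X_ne_zero (0 : Fin (n + 1)))
    (ProjTwist.Pn.toLau_injective (e.symm.trans (map_zero _).symm))

theorem X_pow_mem (d : ℕ) :
    (MvPolynomial.X 0 : MvPolynomial (Fin (n + 1)) k) ^ d ∈ CohB1.polyGrading n k d :=
  (MvPolynomial.mem_homogeneousSubmodule _ _).mpr
    (by simpa using (MvPolynomial.isHomogeneous_X k (0 : Fin (n + 1))).pow d)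

theorem not_subsingleton_h0_twist {a : ℤ} (ha : 0 ≤ a) :
    ¬ Subsingleton (Coh.HH (CohB1.ProjSpace n k) (Twist.twistProjSpace n k a) 0) := fun h => by
  obtain ⟨d, rfl⟩ := Int.eq_ofNat_of_zero_le ha
  haveI : Subsingleton (MvPolynomial.homogeneousSubmodule (Fin (n + 1)) k d) :=
    (ProjTwist.Pn.h0Equiv n k d).toEquiv.subsingleton
  exact pow_ne_zero d (MvPolynomial.X_ne_zero (0 : Fin (n + 1)))
    (congrArg Subtype.val (Subsingleton.elim
      (⟨_, X_pow_mem d⟩ : MvPolynomial.homogeneousSubmodule (Fin (n + 1)) k d) 0))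

/-- Vanishing of `H⁰(J(d))` passes to smaller twists. -/
theorem subsingleton_ideal_twist_of_le (I : (CohB1.ProjSpace n k).IdealSheafData) {d' d : ℤ} (hd : d' ≤ d)
    (h : Subsingleton (Coh.HH (CohB1.ProjSpace n k)
      (CohB1.tensorMod (ClSub.idealMod I) (Twist.twistProjSpace n k d)) 0)) :
    Subsingleton (Coh.HH (CohB1.ProjSpace n k)
      (CohB1.tensorMod (ClSub.idealMod I) (Twist.twistProjSpace n k d')) 0) := by
  haveI := isIntegral_projSpace k n
  let T := DCoh.tensorBi (X := CohB1.ProjSpace n k)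
  let O := Coh.structureModule (CohB1.ProjSpace n k)
  let ι : ClSub.idealMod I ⟶ O := ClSub.idealModι I
  haveI : Mono ι := inferInstanceAs (Mono (kernel.ι _))
  have he : ((d - d').toNat : ℤ) + d' = d := by
    rw [Int.toNat_of_nonneg (by omega)]
    ring
  let μ := SerrePn.mulHom d' d (X_pow_mem (k := k) (n := n) _) he
  haveI hμ : Mono μ := mono_of_invertible (ProjTwist.isInvertible_twistProjSpace n k d')
    (ProjTwist.isInvertible_twistProjSpace n k d) μ (mulHom_pow_ne_zero _ _ _ he _)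
  haveI h1 : Mono ((T.map ι).app (Twist.twistProjSpace n k d')) :=
    (ProjTwist.shortExact_tensor (ProjTwist.isInvertible_twistProjSpace n k d')
      (S := ShortComplex.mk ι (cokernel.π ι) (cokernel.condition ι))
      { exact := ShortComplex.exact_of_g_is_cokernel _ (cokernelIsCokernel ι) }).mono_f
  haveI h2 : Mono ((T.obj O).map μ) :=
    (CohDev.tens_shortExact
      (ProjTwist.isFinLocFreeOfRank_one (LFFrame.isInvertible_structureModule (CohB1.ProjSpace n k)))
      (S := ShortComplex.mk μ (cokernel.π μ) (cokernel.condition μ))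
      { exact := ShortComplex.exact_of_g_is_cokernel _ (cokernelIsCokernel μ) }).mono_f
  haveI : Mono ((T.obj (ClSub.idealMod I)).map μ) :=
    mono_of_mono_fac ((T.map ι).naturality μ)
  exact @Function.Injective.subsingleton _ _ _ (ProperFin.hMap_zero_injective ((T.obj (ClSub.idealMod I)).map μ)) h

/-- Sections of twists of a Serre bundle. -/
theorem h0_serre_iff (hn : 2 ≤ n) (I : (CohB1.ProjSpace n k).IdealSheafData) (c k₀ : ℤ)
    (S : ShortComplex (CohB1.ProjSpace n k).Modules) (hS : S.ShortExact)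
    (h₁ : Nonempty (S.X₁ ≅ Coh.structureModule (CohB1.ProjSpace n k)))
    (h₃ : Nonempty (S.X₃ ≅ CohB1.tensorMod (ClSub.idealMod I) (Twist.twistProjSpace n k c))) :
    Subsingleton (Coh.HH (CohB1.ProjSpace n k) (CohB1.tensorMod S.X₂ (Twist.twistProjSpace n k k₀)) 0) ↔
      k₀ < 0 ∧ Subsingleton (Coh.HH (CohB1.ProjSpace n k)
        (CohB1.tensorMod (ClSub.idealMod I) (Twist.twistProjSpace n k (c + k₀))) 0) := by
  obtain ⟨e₁⟩ := h₁
  obtain ⟨e₃⟩ := h₃
  have hT := ProjTwist.Pn.shortExact_tw hS k₀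
  let T := S.map (ProjTwist.Pn.twFun n k k₀)
  let i₁ : T.X₁ ≅ Twist.twistProjSpace n k k₀ :=
    ProjTwist.Pn.twCongr e₁ k₀ ≪≫ ProjTwist.oneTens _
  let i₃ : T.X₃ ≅ CohB1.tensorMod (ClSub.idealMod I) (Twist.twistProjSpace n k (c + k₀)) :=
    ProjTwist.Pn.twCongr e₃ k₀ ≪≫ ProjTwist.Pn.twTw (ClSub.idealMod I) c k₀ (c + k₀) rfl
  haveI : Mono T.f := hT.mono_f
  haveI hH1 : Subsingleton (Coh.HH (CohB1.ProjSpace n k) T.X₁ (0 + 1)) :=
    haveI := ProjTwist.Pn.subsingleton_twist (n := n) (R := k) k₀ 0 (Or.inl (by omega))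
    ProjTwist.Pn.subsingleton_of_iso i₁.symm (0 + 1)
  constructor
  · intro h
    haveI : Subsingleton (Coh.HH (CohB1.ProjSpace n k) T.X₂ 0) := h
    haveI : Subsingleton (Coh.HH (CohB1.ProjSpace n k) T.X₁ 0) :=
      (ProperFin.hMap_zero_injective T.f).subsingleton
    refine ⟨lt_of_not_ge fun hk => not_subsingleton_h0_twist hk (ProjTwist.Pn.subsingleton_of_iso i₁ 0), ?_⟩
    haveI := CohLin.subsingleton_X₃ hT (n := 0)
    exact ProjTwist.Pn.subsingleton_of_iso i₃ 0
  · rintro ⟨hk, h⟩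
    haveI := ProjTwist.Pn.subsingleton_H0 (R := k) (n := n) (d := k₀) (by omega) hk
    haveI : Subsingleton (Coh.HH (CohB1.ProjSpace n k) T.X₁ 0) := ProjTwist.Pn.subsingleton_of_iso i₁.symm 0
    haveI : Subsingleton (Coh.HH (CohB1.ProjSpace n k) T.X₃ 0) := ProjTwist.Pn.subsingleton_of_iso i₃.symm 0
    exact CohLin.subsingleton_X₂ hT

end Pn

end Groth.Agent.VBStable
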