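import Groth.Agent.VBStable.Factor
import Groth.Agent.CycLib.DevTwist
import Groth.Agent.FFCurve.Pic

/-!
# Wedging with a section of a rank two bundle

`exists_wedge_hom` : for `s : K ⟶ E`, `K` invertible, `F ⊗ K ≅ ⋀² E`, the map `q : E ⟶ F`, `q v ⊗ l = s l ∧ v`.
-/

set_option autoImplicit false

universe u

open CategoryTheory Limits AlgebraicGeometry Opposite TopologicalSpace
open Groth.Agent
open TensorProduct

noncomputable section

namespace Groth.Agent.VBStable

open Groth.Agent.Ref1 Groth.Agent.HomShQC Groth.Agent.ExtPowSt Groth.Agent.PullStalk.Sky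

theorem pair_smul {R M : Type u} [CommRing R] [AddCommGroup M] [Module R M] (a : R) (y z : M) :
    exteriorPower.ιMulti R 2 ![a • y, z] = a • exteriorPower.ιMulti R 2 ![y, z] := by
  have h := (exteriorPower.ιMulti R 2 (M := M)).map_update_smul ![y, z] 0 a y
  rw [show Function.update ![y, z] 0 y = ![y, z] from Function.update_eq_self 0 ![y, z]] at h
  refine Eq.trans ?_ h
  congr 1
  funext i
  fin_cases i <;> simp

variable {X : Scheme.{u}} [IsIntegral X] [IsLocallyNoetherian X]

/-- `q ≠ 0` and `s ≫ q = 0`. -/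
theorem exists_wedge_hom {E L K F : X.Modules} (hE : FlatMod.IsFinLocFreeOfRank 2 E)
    (hL : ExtPow.IsExtPow 2 E L) (hK : PicF.IsInvertible K)
    (hFη : ∀ x, Function.Injective (toη F x)) (θ : CohB1.tensorMod F K ≅ L) (s : K ⟶ E) (hs : s ≠ 0)
    [E.IsQuasicoherent] (hEη : ∀ x, Function.Injective (toη E x)) :
    ∃ q : E ⟶ F, q ≠ 0 ∧ s ≫ q = 0 := by
  let η := genericPoint X
  obtain ⟨φ, hφ⟩ := hL
  let Φ : Sys 2 E L := ⟨φ, hφ⟩
  choose e he using CycLib.Dev.exists_isBas hK
  let W : ∀ x, F.presheaf.stalk x →ₗ[X.presheaf.stalk x]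
      ↥(⋀[X.presheaf.stalk x]^2 (E.presheaf.stalk x)) := fun x =>
    ((stalkEquiv Φ x).toLinearMap.comp (RefHull.stalkMapₗ θ.hom x)).comp (CycLib.Dev.mu F (e x))
  have hWb : ∀ x, Function.Bijective (W x) := fun x =>
    (stalkEquiv Φ x).bijective.comp (((isIso_iff_bijective_stalk θ.hom).mp inferInstance x).comp
      (CycLib.Dev.mu_bijective F (he x)))
  let P : ∀ x, F.presheaf.stalk x ⊗[X.presheaf.stalk x] K.presheaf.stalk x →ₗ[X.presheaf.stalk x]
      ↥(⋀[X.presheaf.stalk x]^2 (E.presheaf.stalk x)) := fun x =>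
    ((stalkEquiv Φ x).toLinearMap.comp (RefHull.stalkMapₗ θ.hom x)).comp (tfrom F K x)
  have hWP : ∀ x w, W x w = P x (w ⊗ₜ e x) := fun x w => rfl
  have hPsp : ∀ x w l, extσ (spR (Ref1.hsp x)) 2 (spS E (Ref1.hsp x)) (P x (w ⊗ₜ l)) =
      P η (toη F x w ⊗ₜ toη K x l) := by
    intro x w l
    show extσ _ 2 _ (stalkEquiv Φ x (RefHull.stalkMapₗ θ.hom x (tfrom F K x (w ⊗ₜ l)))) =
      stalkEquiv Φ η (RefHull.stalkMapₗ θ.hom η (tfrom F K η (toη F x w ⊗ₜ toη K x l)))
    rw [← stalkEquiv_sp Φ (Ref1.hsp x)]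
    refine congrArg _ ?_
    refine (sp_stalkMap θ.hom (Ref1.hsp x) _).trans (congrArg _ ?_)
    exact sp_fromTensor F K (Ref1.hsp x) w l
  let A : ∀ x, E.presheaf.stalk x →ₗ[X.presheaf.stalk x] ↥(⋀[X.presheaf.stalk x]^2 (E.presheaf.stalk x)) :=
    fun x => (exteriorPower.ιMulti (X.presheaf.stalk x) 2).toMultilinearMap.toLinearMap
      ![RefHull.stalkMapₗ s x (e x), 0] 1
  have hA : ∀ x v, A x v = exteriorPower.ιMulti (X.presheaf.stalk x) 2 ![RefHull.stalkMapₗ s x (e x), v] := by
    intro x v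
    show exteriorPower.ιMulti (X.presheaf.stalk x) 2 (Function.update _ 1 v) = _
    congr 1
    funext i
    fin_cases i <;> simp
  let f : ∀ x, RefHull.StalkHom E F x := fun x =>
    (LinearEquiv.ofBijective (W x) (hWb x)).symm.toLinearMap.comp (A x)
  have hf : ∀ x v, W x (f x v) = A x v := fun x v =>
    LinearEquiv.apply_ofBijective_symm_apply (f := W x) (h := hWb x) (A x v)
  have hrange : ∀ (x : X) (v : E.presheaf.stalk x), f η (toη E x v) ∈ Set.range (toη F x) := by
    intro x v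
    refine ⟨f x v, (hWb η).1 ?_⟩
    obtain ⟨a, ha⟩ := (he η).2 (toη K x (e x))
    change a • e η = toη K x (e x) at ha
    have h1 := (congrArg (extσ (spR (Ref1.hsp x)) 2 (spS E (Ref1.hsp x)))
      ((hWP x (f x v)).symm.trans ((hf x v).trans (hA x v))))
    rw [hPsp, extσ_ιMulti, ← ha, TensorProduct.tmul_smul, map_smul, ← hWP] at h1
    have ha0 : a ≠ 0 := by
      rintro rfl
      rw [zero_smul] at ha
      refine (one_ne_zero : (1 : X.presheaf.stalk x) ≠ 0) ((he x).1 ?_)
      rw [LinearMap.toSpanSingleton_apply, LinearMap.toSpanSingleton_apply, one_smul, zero_smul]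
      exact FFCurve.toη_injective_of_invertible hK x (ha.symm.trans (map_zero _).symm)
    refine smul_right_injective _ ha0 (show a • _ = a • _ from ?_)
    rw [h1, hf, hA]
    have e2 : toη E x (RefHull.stalkMapₗ s x (e x)) = a • RefHull.stalkMapₗ s η (e η) := by
      rw [← map_smul, ha]
      exact sp_stalkMap s (Ref1.hsp x) (e x)
    refine Eq.trans ?_ (pair_smul a _ _)
    congr 1
    funext i
    fin_cases i
    · exact e2
    · rfl
  obtain ⟨q, hq⟩ := exists_hom_of_generic hFη (f η) hrange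
  obtain ⟨b⟩ := exists_basis_stalk_rank hE η
  have hse : RefHull.stalkMapₗ s η (e η) ≠ 0 := fun h0 => hs (hom_ext_η hEη (LinearMap.ext fun w => by
    obtain ⟨a, rfl⟩ := (he η).2 w
    rw [LinearMap.toSpanSingleton_apply, map_smul, h0, smul_zero]
    exact (Omega.Stalks.stalkLin_zero η _).symm))
  refine ⟨q, fun h0 => hse ?_, hom_ext_η hFη (LinearMap.ext fun w => ?_)⟩
  · have hz : ∀ v, b.det ![RefHull.stalkMapₗ s η (e η), v] = 0 := fun v => by
      have h2 : f η v = 0 := by
        rw [← hq, h0]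
        exact Omega.Stalks.stalkLin_zero η v
      have h3 := hf η v
      rw [h2, map_zero, hA] at h3
      rw [← coord_ιMulti, ← h3, map_zero]
    refine b.ext_elem fun i => ?_
    have e0 := hz (b 0)
    have e1 := hz (b 1)
    rw [det_pair] at e0 e1
    simp [Finsupp.single_apply] at e0 e1
    fin_cases i
    · simpa using e1
    · simpa using e0
  · obtain ⟨a, rfl⟩ := (he η).2 w
    rw [LinearMap.toSpanSingleton_apply, map_smul, map_smul]
    refine (congrArg (a • ·) ?_).trans (congrArg (a • ·) (Omega.Stalks.stalkLin_zero η (e η)).symm)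
    refine (Omega.Stalks.stalkLin_comp s q η (e η)).trans ?_
    refine (LinearMap.congr_fun hq _).trans ((hWb η).1 ?_)
    rw [hf, hA, map_zero]
    exact AlternatingMap.map_eq_zero_of_eq _ _ (i := 0) (j := 1) rfl (by decide)

end Groth.Agent.VBStable
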