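import Mathlib.LinearAlgebra.Determinant
import Mathlib.RingTheory.UniqueFactorizationDomain.Basic
import Mathlib.RingTheory.UniqueFactorizationDomain.GCDMonoid
import Mathlib.Tactic.LinearCombination
import Mathlib.Tactic.FinCases

/-!
# Singular endomorphisms of a free module of rank two over a factorial ring
-/

set_option autoImplicit false

namespace Groth.Agent.VBStable

variable {R M : Type*} [CommRing R] [IsDomain R] [UniqueFactorizationMonoid R] [AddCommGroup M] [Module R M]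

omit [IsDomain R] [UniqueFactorizationMonoid R] in
theorem det_pair (b : Module.Basis (Fin 2) R M) (s v : M) :
    b.det ![s, v] = b.repr s 0 * b.repr v 1 - b.repr s 1 * b.repr v 0 := by
  rw [Module.Basis.det_apply, Matrix.det_fin_two]
  simp [Module.Basis.toMatrix_apply]
  ring

/-- A nonzero endomorphism of a free module of rank two with nonzero kernel: the kernel is generated by
one vector `s` and the endomorphism factors through `v ↦ s ∧ v`. -/
theorem exists_kernel_gen (b : Module.Basis (Fin 2) R M) (ψ : M →ₗ[R] M) (hψ : ψ ≠ 0)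
    (hker : ∃ u, u ≠ 0 ∧ ψ u = 0) :
    ∃ s h : M, s ≠ 0 ∧ ψ s = 0 ∧ h ≠ 0 ∧ (∀ v, ψ v = b.det ![s, v] • h) ∧
      ∀ v, ψ v = 0 → ∃ r : R, v = r • s := by
  obtain ⟨u, hu, hψu⟩ := hker
  have hne : b.repr u 0 ≠ 0 ∨ b.repr u 1 ≠ 0 := by
    by_contra hc
    push Not at hc
    exact hu (b.repr.injective (Finsupp.ext fun i => by fin_cases i <;> simp [hc.1, hc.2]))
  obtain ⟨s₀, s₁, g, hrel, hg0, hg1⟩ : ∃ s₀ s₁ g : R, IsRelPrime s₀ s₁ ∧ g * s₀ = b.repr u 0 ∧ g * s₁ = b.repr u 1 := by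
    rcases hne with h | h
    · obtain ⟨a, a', g, h1, h2, h3⟩ := UniqueFactorizationMonoid.exists_reduced_factors _ h (b.repr u 1)
      exact ⟨a, a', g, h1, h2, h3⟩
    · obtain ⟨a, a', g, h1, h2, h3⟩ := UniqueFactorizationMonoid.exists_reduced_factors' (b.repr u 0) _ h
      exact ⟨a, a', g, h1, h2, h3⟩
  let s : M := s₀ • b 0 + s₁ • b 1
  have hs0 : b.repr s 0 = s₀ := by simp [s]
  have hs1 : b.repr s 1 = s₁ := by simp [s]
  have hus : u = g • s := b.repr.injective (Finsupp.ext fun i => by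
    fin_cases i <;> simp [hs0, hs1, hg0, hg1])
  have hg : g ≠ 0 := fun h => hu (by rw [hus, h, zero_smul])
  have hs : s ≠ 0 := fun h => hu (by rw [hus, h, smul_zero])
  have htf : Function.Injective (fun v : M => g • v) := fun v w e => b.repr.injective (Finsupp.ext fun i =>
    mul_left_cancel₀ hg (by simpa using congrArg (fun z => b.repr z i) e))
  have hψs : ψ s = 0 := htf (by
    show g • ψ s = g • (0 : M)
    rw [smul_zero, ← map_smul, ← hus, hψu])
  -- coordinatewise
  have key : ∀ p q : R, s₀ * p + s₁ * q = 0 → ∃ t : R, p = -(s₁ * t) ∧ q = s₀ * t := by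
    intro p q hpq
    have h0 : s₀ ∣ s₁ * q := ⟨-p, by linear_combination hpq⟩
    obtain ⟨t, rfl⟩ := hrel.dvd_of_dvd_mul_left h0
    by_cases hz : s₀ = 0
    · obtain ⟨c, hc⟩ : IsUnit s₁ := hrel (hz ▸ dvd_zero s₁) dvd_rfl
      refine ⟨-((c⁻¹ : Rˣ) : R) * p, ?_, by rw [hz, zero_mul, zero_mul]⟩
      rw [← hc]
      simp
    · refine ⟨t, mul_left_cancel₀ hz ?_, rfl⟩
      linear_combination hpq
  have hco : ∀ i, s₀ * b.repr (ψ (b 0)) i + s₁ * b.repr (ψ (b 1)) i = 0 := fun i => by
    have := congrArg (fun z => b.repr z i) hψs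
    simpa [s] using this
  choose t ht0 ht1 using fun i => key _ _ (hco i)
  let h : M := t 0 • b 0 + t 1 • b 1
  have hht : ∀ i, b.repr h i = t i := fun i => by fin_cases i <;> simp [h]
  have hfac : ∀ v, ψ v = b.det ![s, v] • h := fun v => b.repr.injective (Finsupp.ext fun i => by
    have hv : v = b.repr v 0 • b 0 + b.repr v 1 • b 1 := by
      conv_lhs => rw [← b.sum_repr v]
      rw [Fin.sum_univ_two]
    conv_lhs => rw [hv]
    simp only [map_add, map_smul, Finsupp.coe_add, Pi.add_apply, Finsupp.coe_smul, Pi.smul_apply, smul_eq_mul,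
      ht0, ht1, det_pair, hs0, hs1, hht]
    ring)
  have hh : h ≠ 0 := fun h0 => hψ (LinearMap.ext fun v => by rw [hfac, h0, smul_zero]; rfl)
  refine ⟨s, h, hs, hψs, hh, hfac, fun v hv => ?_⟩
  rw [hfac] at hv
  have hd : b.det ![s, v] = 0 := by
    obtain ⟨i, hi⟩ : ∃ i, b.repr h i ≠ 0 := by
      by_contra hc
      push Not at hc
      exact hh (b.repr.injective (Finsupp.ext fun i => by simp [hc i]))
    have := congrArg (fun z => b.repr z i) hv
    simp only [map_smul, map_zero, Finsupp.coe_smul, Finsupp.coe_zero, Pi.smul_apply, Pi.zero_apply,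
      smul_eq_mul] at this
    exact (mul_eq_zero.mp this).resolve_right hi
  rw [det_pair, hs0, hs1] at hd
  obtain ⟨r, hr0, hr1⟩ : ∃ r : R, b.repr v 0 = r * s₀ ∧ b.repr v 1 = r * s₁ := by
    by_cases hz : s₀ = 0
    · obtain ⟨c, hc⟩ : IsUnit s₁ := hrel (hz ▸ dvd_zero s₁) dvd_rfl
      refine ⟨b.repr v 1 * ((c⁻¹ : Rˣ) : R), ?_, by rw [← hc, mul_assoc, Units.inv_mul, mul_one]⟩
      rw [hz, zero_mul, zero_sub, neg_eq_zero, ← hc, Units.mul_right_eq_zero] at hd
      rw [hd, hz, mul_zero]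
    · have h0 : s₀ ∣ s₁ * b.repr v 0 := ⟨b.repr v 1, by linear_combination -hd⟩
      obtain ⟨r, hr⟩ := hrel.dvd_of_dvd_mul_left h0
      refine ⟨r, by rw [hr, mul_comm], mul_left_cancel₀ hz ?_⟩
      rw [hr] at hd
      linear_combination hd
  exact ⟨r, b.repr.injective (Finsupp.ext fun i => by fin_cases i <;> simp [hs0, hs1, hr0, hr1])⟩

end Groth.Agent.VBStable
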