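import Groth.Agent.VBStable.Alg
import Groth.Agent.ExtPowSt.Stalk
import Groth.Agent.Ref1.Class
import Groth.Agent.Ref1.Extend
import Groth.Agent.LFDesc.Invertible
import Groth.Agent.CycLib.DevRat
import Groth.Agent.CohDev.Coh
import Groth.Agent.CohDev.Tensor
import Groth.Agent.Omega.Stalks
import Mathlib.Tactic.Module

/-!
# Singular endomorphisms of rank two bundles on locally factorial integral schemes

`exists_kernel_and_factor` : a nonzero endomorphism `ψ` of a rank two bundle `E` with determinant `L`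
which is not a monomorphism has invertible kernel `K`, and for `F ⊗ K ≅ L` there is a nonzero `F ⟶ E`.
-/

set_option autoImplicit false

universe u

open CategoryTheory Limits AlgebraicGeometry Opposite TopologicalSpace
open Groth.Agent
open TensorProduct

noncomputable section

namespace Groth.Agent.VBStable

open Groth.Agent.Ref1 Groth.Agent.ExtPowSt Groth.Agent.PullStalk.Sky

variable {X : Scheme.{u}}

theorem exists_basis_stalk_rank {r : ℕ} {E : X.Modules} (hE : FlatMod.IsFinLocFreeOfRank r E) (x : X) :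
    Nonempty (Module.Basis (Fin r) (X.presheaf.stalk x) (E.presheaf.stalk x)) := by
  obtain ⟨U, e, hx, he⟩ := CohDev.exists_frame hE x
  exact ⟨Module.Basis.ofEquivFun (LinearEquiv.ofBijective _ (he.stalkComb_bijective x hx)).symm⟩

section Wedge

variable {R M : Type u} [CommRing R] [AddCommGroup M] [Module R M] (b : Module.Basis (Fin 2) R M)

/-- coordinate of an element of `⋀² M` -/
def coord : ↥(⋀[R]^2 M) →ₗ[R] R := exteriorPower.alternatingMapLinearEquiv b.det

theorem coord_ιMulti (v : Fin 2 → M) : coord b (exteriorPower.ιMulti R 2 v) = b.det v := by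
  simp [coord]

theorem eq_coord_smul (z : ↥(⋀[R]^2 M)) : z = coord b z • exteriorPower.ιMulti R 2 b := by
  have h : (LinearMap.id : ↥(⋀[R]^2 M) →ₗ[R] ↥(⋀[R]^2 M)) =
      (coord b).smulRight (exteriorPower.ιMulti R 2 b) := by
    refine exteriorPower.linearMap_ext (b.ext_alternating fun v hv => ?_)
    simp only [LinearMap.compAlternatingMap_apply, LinearMap.id_apply, LinearMap.smulRight_apply, coord_ιMulti]
    let σ : Equiv.Perm (Fin 2) := Equiv.ofBijective v (Finite.injective_iff_bijective.mp hv)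
    have hσ : (fun i => b (v i)) = fun i => b (σ i) := rfl
    rw [hσ]
    show exteriorPower.ιMulti R 2 (b ∘ σ) = b.det (b ∘ σ) • _
    rw [AlternatingMap.map_perm, AlternatingMap.map_perm, Module.Basis.det_self]
    rcases Int.units_eq_one_or (Equiv.Perm.sign σ) with hs | hs <;> simp [hs, Units.smul_def] <;> module
  exact LinearMap.congr_fun h z

end Wedge

variable [IsIntegral X] [IsLocallyNoetherian X]

theorem isInvertible_kernel_of_stalks {E : X.Modules} (hE : Coh.IsCoh E) (ψ : E ⟶ E)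
    (h : ∀ x : X, ∃ s : E.presheaf.stalk x, s ≠ 0 ∧ RefHull.stalkMapₗ ψ x s = 0 ∧
      ∀ v, RefHull.stalkMapₗ ψ x v = 0 → ∃ r : X.presheaf.stalk x, v = r • s)
    (hfree : ∀ x : X, Module.IsTorsionFree (X.presheaf.stalk x) (E.presheaf.stalk x)) :
    PicF.IsInvertible (kernel ψ) := by
  haveI := hE.1
  have hK : Coh.IsCoh (kernel ψ) := CohDev.isCoh_kernel ψ hE hE.1
  haveI := hK.1
  refine LFDesc.isInvertible_of_stalks (kernel ψ)
    (fun U hU => haveI := hK.2; QCoh.finite_sections_of_isFiniteType (kernel ψ) hU) fun x => ?_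
  haveI := hfree x
  obtain ⟨s, hs0, hψs, hgen⟩ := h x
  have hex := CycLib.Dev.stalk_exact_kernel ψ x
  have hinj : Function.Injective (RefHull.stalkMapₗ (kernel.ι ψ) x) :=
    CohDev.stalk_injective (kernel.ι ψ) x
  obtain ⟨k₀, hk₀⟩ := (hex s).mp hψs
  have hk₀' : RefHull.stalkMapₗ (kernel.ι ψ) x k₀ = s := hk₀
  have hbij : Function.Bijective (LinearMap.toSpanSingleton (X.presheaf.stalk x) _ k₀) := by
    refine ⟨fun a a' haa => ?_, fun k => ?_⟩
    · have h2 := congrArg (RefHull.stalkMapₗ (kernel.ι ψ) x) haa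
      rw [LinearMap.toSpanSingleton_apply, LinearMap.toSpanSingleton_apply, map_smul, map_smul, hk₀'] at h2
      rw [← sub_eq_zero, ← sub_smul] at h2
      exact sub_eq_zero.mp ((smul_eq_zero.mp h2).resolve_right hs0)
    · obtain ⟨r, hr⟩ := hgen (RefHull.stalkMapₗ (kernel.ι ψ) x k) ((hex _).mpr ⟨k, rfl⟩)
      exact ⟨r, hinj (by rw [LinearMap.toSpanSingleton_apply, map_smul, hk₀', hr])⟩
  exact ⟨(Module.Basis.singleton (Fin 1) _).map (LinearEquiv.ofBijective _ hbij)⟩

/-- The invertible kernel and the factorisation. -/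
theorem exists_kernel_and_factor (hufd : ∀ x : X, UniqueFactorizationMonoid (X.presheaf.stalk x))
    {E L : X.Modules} (hE : FlatMod.IsFinLocFreeOfRank 2 E) (hEc : Coh.IsCoh E) (hL : ExtPow.IsExtPow 2 E L)
    (ψ : E ⟶ E) (hψ : ψ ≠ 0) (hnm : ¬ Mono ψ) :
    PicF.IsInvertible (kernel ψ) ∧ kernel.ι ψ ≠ 0 ∧
      ∀ F : X.Modules, PicF.IsInvertible F → Nonempty (CohB1.tensorMod F (kernel ψ) ≅ L) →
        ∃ h : F ⟶ E, h ≠ 0 := by
  haveI := hEc.1
  let η := genericPoint X
  let b : ∀ x : X, Module.Basis (Fin 2) (X.presheaf.stalk x) (E.presheaf.stalk x) :=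
    fun x => (exists_basis_stalk_rank hE x).some
  haveI : ∀ x : X, UniqueFactorizationMonoid (X.presheaf.stalk x) := hufd
  have hfree : ∀ x : X, Module.IsTorsionFree (X.presheaf.stalk x) (E.presheaf.stalk x) := fun x => by
    haveI := Module.Free.of_basis (b x)
    infer_instance
  have hinjη : ∀ x, Function.Injective (toη E x) := fun x => toη_injective E x (hfree x)
  let p : ∀ x, RefHull.StalkHom E E x := fun x => RefHull.stalkMapₗ ψ x
  have hsp : ∀ x v, toη E x (p x v) = p η (toη E x v) := fun x v => sp_stalkMap ψ (Ref1.hsp x) v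
  haveI := hfree η
  -- no stalk map vanishes
  have hne : ∀ x, p x ≠ 0 := by
    intro x hx
    have h2 : RefHull.stalkMapₗ ψ η = RefHull.stalkMapₗ (0 : E ⟶ E) η := LinearMap.ext fun w => by
      obtain ⟨a, m, ha, hm⟩ := exists_smul_eq_toη E x w
      have h0 : toK x a • p η w = 0 := by
        rw [← map_smul, ← hm, ← hsp, hx]
        exact map_zero _
      refine ((smul_eq_zero.mp h0).resolve_left (toK_ne_zero ha)).trans ?_
      exact (Omega.Stalks.stalkLin_zero η w).symm
    exact hψ (hom_ext_η hinjη h2)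
  -- every stalk has a kernel
  have hker : ∀ x, ∃ v, v ≠ 0 ∧ p x v = 0 := by
    obtain ⟨x₁, hx₁⟩ : ∃ x, ¬ Function.Injective (p x) := by
      by_contra hc
      push Not at hc
      exact hnm (Omega.Stalks.mono_of_stalk hc)
    obtain ⟨v₁, hv₁, hv₁0⟩ : ∃ v, p x₁ v = 0 ∧ v ≠ 0 := by
      by_contra hc
      push Not at hc
      exact hx₁ ((injective_iff_map_eq_zero _).mpr hc)
    intro x
    have hw : toη E x₁ v₁ ≠ 0 := fun h => hv₁0 (hinjη x₁ (h.trans (map_zero _).symm))
    obtain ⟨a, m, ha, hm⟩ := exists_smul_eq_toη E x (toη E x₁ v₁)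
    refine ⟨m, fun h => ?_, hinjη x ?_⟩
    · rw [h, map_zero] at hm
      exact hw ((smul_eq_zero.mp hm.symm).resolve_left (toK_ne_zero ha))
    · rw [hsp, hm, map_smul, ← hsp, hv₁, map_zero, smul_zero]
      exact (map_zero _).symm
  choose s h hs0 hps hh0 hfac hgen using fun x => exists_kernel_gen (b x) (p x) (hne x) (hker x)
  let K : X.Modules := kernel ψ
  have hK : PicF.IsInvertible K :=
    isInvertible_kernel_of_stalks hEc ψ (fun x => ⟨s x, hs0 x, hps x, hgen x⟩) hfree
  let ι : ∀ x, RefHull.StalkHom K E x := fun x => RefHull.stalkMapₗ (kernel.ι ψ) x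
  have hk : ∀ x, ∃ k : K.presheaf.stalk x, ι x k = s x := fun x =>
    (CycLib.Dev.stalk_exact_kernel ψ x (s x)).mp (hps x)
  choose k hk using hk
  refine ⟨hK, fun h0 => hs0 η ?_, fun F hF ⟨θ⟩ => ?_⟩
  · rw [← hk η]
    show RefHull.stalkMapₗ (kernel.ι ψ) η (k η) = 0
    rw [h0]
    exact Omega.Stalks.stalkLin_zero η _
  obtain ⟨φ, hφ⟩ := hL
  let Φ : Sys 2 E L := ⟨φ, hφ⟩
  let P : ∀ x, F.presheaf.stalk x ⊗[X.presheaf.stalk x] K.presheaf.stalk x →ₗ[X.presheaf.stalk x]
      ↥(⋀[X.presheaf.stalk x]^2 (E.presheaf.stalk x)) := fun x =>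
    ((stalkEquiv Φ x).toLinearMap.comp (RefHull.stalkMapₗ θ.hom x)).comp (tfrom F K x)
  have hPsp : ∀ x w l, extσ (spR (Ref1.hsp x)) 2 (spS E (Ref1.hsp x)) (P x (w ⊗ₜ l)) =
      P η (toη F x w ⊗ₜ toη K x l) := by
    intro x w l
    show extσ _ 2 _ (stalkEquiv Φ x (RefHull.stalkMapₗ θ.hom x (tfrom F K x (w ⊗ₜ l)))) =
      stalkEquiv Φ η (RefHull.stalkMapₗ θ.hom η (tfrom F K η (toη F x w ⊗ₜ toη K x l)))
    rw [← stalkEquiv_sp Φ (Ref1.hsp x)]
    refine congrArg _ ?_
    refine (sp_stalkMap θ.hom (Ref1.hsp x) _).trans (congrArg _ ?_)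
    exact sp_fromTensor F K (Ref1.hsp x) w l
  -- at the generic point
  let T : RefHull.StalkHom F E η :=
    (((coord (b η)).comp (P η)).comp
      ((TensorProduct.mk (X.presheaf.stalk η) (F.presheaf.stalk η) (K.presheaf.stalk η)).flip (k η))).smulRight (h η)
  have hTw : ∀ w, T w = coord (b η) (P η (w ⊗ₜ k η)) • h η := fun w => rfl
  have hT : ∀ w l v, l ≠ 0 → P η (w ⊗ₜ l) = exteriorPower.ιMulti (X.presheaf.stalk η) 2 ![ι η l, v] → T w = p η v := by
    intro w l v hl hP
    obtain ⟨a, ha⟩ := hgen η (ι η l) ((CycLib.Dev.stalk_exact_kernel ψ η _).mpr ⟨l, rfl⟩)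
    have hinj : Function.Injective (ι η) := CohDev.stalk_injective (kernel.ι ψ) η
    have hla : l = a • k η := hinj (by rw [ha, map_smul, hk])
    have ha0 : a ≠ 0 := fun h0 => hl (by rw [hla, h0, zero_smul])
    have e : a * coord (b η) (P η (w ⊗ₜ k η)) = a * (b η).det ![s η, v] := by
      rw [← smul_eq_mul, ← map_smul, ← map_smul, ← TensorProduct.tmul_smul, ← hla, hP, coord_ιMulti, ha,
        det_pair, det_pair, map_smul]
      simp only [Finsupp.coe_smul, Pi.smul_apply, smul_eq_mul]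
      ring
    rw [hTw, mul_left_cancel₀ ha0 e, hfac η]
  have hrange : ∀ (x : X) (w : F.presheaf.stalk x), T (toη F x w) ∈ Set.range (toη E x) := by
    intro x w
    obtain ⟨v₁, hv₁⟩ : ∃ v, (b x).det ![s x, v] ≠ 0 := by
      by_contra hc
      push Not at hc
      exact hne x (LinearMap.ext fun v => by rw [hfac x, hc v, zero_smul]; rfl)
    let d := (b x).det ![s x, v₁]
    let r := coord (b x) (P x (w ⊗ₜ k x))
    refine ⟨r • h x, ?_⟩
    have hP : P x ((d • w) ⊗ₜ k x) = exteriorPower.ιMulti (X.presheaf.stalk x) 2 ![s x, r • v₁] := by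
      rw [← TensorProduct.smul_tmul', map_smul, eq_coord_smul (b x) (P x (w ⊗ₜ k x)),
        eq_coord_smul (b x) (exteriorPower.ιMulti _ 2 ![s x, r • v₁]), coord_ιMulti, smul_smul]
      refine congrArg (· • _) ?_
      simp only [d, r, det_pair, map_smul, Finsupp.coe_smul, Pi.smul_apply, smul_eq_mul]
      ring
    have hkne : toη K x (k x) ≠ 0 := fun h0 => hs0 x (hinjη x (by
      rw [← hk x, map_zero]
      refine (sp_stalkMap (kernel.ι ψ) (Ref1.hsp x) (k x)).trans ?_
      rw [show sp K (Ref1.hsp x) (k x) = 0 from h0, map_zero]))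
    have e := hT (toη F x (d • w)) (toη K x (k x)) (toη E x (r • v₁)) hkne (by
      rw [← hPsp, hP, extσ_ιMulti]
      congr 1
      funext i
      fin_cases i
      · show sp E (Ref1.hsp x) (s x) = _
        rw [← hk x]
        exact sp_stalkMap (kernel.ι ψ) (Ref1.hsp x) (k x)
      · rfl)
    rw [← hsp, map_smul (p x), hfac x v₁, smul_smul] at e
    rw [show toη F x (d • w) = toK x d • toη F x w from sp_smul F _ d w, map_smul] at e
    have e2 : toK x d • T (toη F x w) = toK x d • toη E x (r • h x) := by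
      rw [e, ← sp_smul E (Ref1.hsp x) d, smul_smul, mul_comm d r]
    exact ((smul_right_injective _ (toK_ne_zero hv₁)) e2).symm
  obtain ⟨g, hg⟩ := exists_hom_of_generic hinjη T hrange
  refine ⟨g, fun h0 => ?_⟩
  rw [h0] at hg
  -- the pairing is onto
  obtain ⟨z, hz⟩ : ∃ z, coord (b η) (P η z) ≠ 0 := by
    obtain ⟨v, hv⟩ := (stalkEquiv Φ η).surjective (exteriorPower.ιMulti (X.presheaf.stalk η) 2 (b η))
    obtain ⟨v', hv'⟩ : ∃ v', RefHull.stalkMapₗ θ.hom η v' = v := by
      refine ⟨RefHull.stalkMapₗ θ.inv η v, (Omega.Stalks.stalkLin_comp θ.inv θ.hom η v).symm.trans ?_⟩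
      rw [θ.inv_hom_id]
      exact CohDev.stalkLin_id_apply η v
    obtain ⟨z, hz⟩ := tfrom_surjective F K η v'
    refine ⟨z, ?_⟩
    show coord (b η) (stalkEquiv Φ η (RefHull.stalkMapₗ θ.hom η (tfrom F K η z))) ≠ 0
    rw [hz, hv', hv, coord_ιMulti, Module.Basis.det_self]
    exact one_ne_zero
  refine hz ?_
  have hall : ∀ z, coord (b η) (P η z) = 0 := by
    intro z
    induction z using TensorProduct.induction_on with
    | zero => rw [map_zero, map_zero]
    | tmul w l =>
      obtain ⟨a, ha⟩ := hgen η (ι η l) ((CycLib.Dev.stalk_exact_kernel ψ η _).mpr ⟨l, rfl⟩)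
      have hla : l = a • k η := (CohDev.stalk_injective (kernel.ι ψ) η)
        (show ι η l = ι η (a • k η) by rw [ha, map_smul, hk])
      have h1 : T w = 0 := by rw [← hg]; exact Omega.Stalks.stalkLin_zero η w
      rw [hla, TensorProduct.tmul_smul, map_smul, map_smul,
        (smul_eq_zero.mp ((hTw w).symm.trans h1)).resolve_right (hh0 η), smul_zero]
    | add a c ha hc => rw [map_add, map_add, ha, hc, add_zero]
  exact hall z

end Groth.Agent.VBStable
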